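import Mathlib
import Groth.Agent.H06Unram.Tower
set_option linter.style.haveILetI false

/-!
Over an infinite field an equation can be multiplied so as to have nonzero differential at
finitely many given non-closed smooth points.
-/

universe u

open IsLocalRing Polynomial
open scoped TensorProduct KaehlerDifferential

namespace Groth.Agent.H23MovLem

variable (k : Type u) [Field k] {A : Type u} [CommRing A] [Algebra k A]

/-- The value in the fibre at `q` of the differential. -/
noncomputable def δ (q : Ideal A) [q.IsPrime] :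
    A →ₗ[k] ResidueField (Localization.AtPrime q) ⊗[Localization.AtPrime q] Ω[Localization.AtPrime q⁄k] :=
  ((TensorProduct.mk (Localization.AtPrime q) (ResidueField (Localization.AtPrime q))
      Ω[Localization.AtPrime q⁄k] 1).restrictScalars k).comp
    ((KaehlerDifferential.D k (Localization.AtPrime q)).toLinearMap.comp
      (IsScalarTower.toAlgHom k A (Localization.AtPrime q)).toLinearMap)

variable {k}

theorem span_D_localization (q : Ideal A) [q.IsPrime] :
    Submodule.span (Localization.AtPrime q) (Set.range fun b : A =>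
      KaehlerDifferential.D k (Localization.AtPrime q) (algebraMap A (Localization.AtPrime q) b)) = ⊤ := by
  set T := Localization.AtPrime q
  rw [eq_top_iff]
  rintro y -
  obtain ⟨⟨m, s⟩, hs⟩ := IsLocalizedModule.surj q.primeCompl (KaehlerDifferential.map k k A T) y
  have hm : KaehlerDifferential.map k k A T m ∈
      Submodule.span T (Set.range fun b : A => KaehlerDifferential.D k T (algebraMap A T b)) := by
    clear hs
    have hm' : m ∈ Submodule.span A (Set.range (KaehlerDifferential.D k A)) := by
      rw [KaehlerDifferential.span_range_derivation]; exact Submodule.mem_top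
    induction hm' using Submodule.span_induction with
    | mem z hz => obtain ⟨b, rfl⟩ := hz; rw [KaehlerDifferential.map_D]; exact Submodule.subset_span ⟨b, rfl⟩
    | zero => rw [map_zero]; exact zero_mem _
    | add a b _ _ ha hb => rw [map_add]; exact add_mem ha hb
    | smul a b _ hb => rw [map_smul, algebra_compatible_smul T]; exact Submodule.smul_mem _ _ hb
  rw [← hs, Submonoid.smul_def, algebra_compatible_smul T] at hm
  exact (Submodule.smul_mem_iff_of_isUnit _ (IsLocalization.map_units T s)).1 hm

/-- A non-closed smooth point has a nonzero differential. -/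
theorem exists_δ_ne_zero [Algebra.FiniteType k A] (q : Ideal A) [q.IsPrime]
    (hmax : ¬ q.IsMaximal) : ∃ a, δ k q a ≠ 0 := by
  by_contra! h
  refine hmax ?_
  let T := Localization.AtPrime q
  haveI : Algebra.EssFiniteType A T := Algebra.EssFiniteType.of_isLocalization T q.primeCompl
  haveI : Algebra.EssFiniteType k T := Algebra.EssFiniteType.comp k A T
  have h0 : ∀ m : Ω[T⁄k], (1 : ResidueField T) ⊗ₜ[T] m = 0 := by
    intro m
    have hm : m ∈ Submodule.span T (Set.range fun b : A =>
        KaehlerDifferential.D k T (algebraMap A T b)) := (span_D_localization q).ge trivial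
    induction hm using Submodule.span_induction with
    | mem z hz => obtain ⟨b, rfl⟩ := hz; exact h b
    | zero => exact TensorProduct.tmul_zero _ _
    | add a b _ _ ha hb => rw [TensorProduct.tmul_add, ha, hb, add_zero]
    | smul a b _ hb => rw [TensorProduct.tmul_smul, hb, smul_zero]
  haveI : Subsingleton (ResidueField T ⊗[T] Ω[T⁄k]) := by
    refine subsingleton_of_forall_eq 0 fun z => ?_
    induction z using TensorProduct.induction_on with
    | zero => rfl
    | tmul c m =>
      obtain ⟨r, rfl⟩ := residue_surjective c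
      rw [show residue T r = r • (1 : ResidueField T) by rw [Algebra.smul_def, mul_one]; rfl,
        ← TensorProduct.smul_tmul', h0, smul_zero]
    | add x y hx hy => rw [hx, hy, add_zero]
  haveI : Subsingleton Ω[T⁄k] := IsLocalRing.subsingleton_tensorProduct.1 ‹_›
  haveI : Algebra.FormallyUnramified k T := ⟨inferInstance⟩
  haveI : Algebra.FormallyUnramified T (ResidueField T) := .of_surjective (Algebra.ofId T (ResidueField T))
    residue_surjective
  haveI : Algebra.FormallyUnramified k (ResidueField T) := .comp k T (ResidueField T)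
  haveI : Algebra.EssFiniteType k (ResidueField T) := .comp k T (ResidueField T)
  haveI : Module.Finite k (ResidueField T) :=
    Algebra.FormallyUnramified.finite_of_free k (ResidueField T)
  let χ : A →ₐ[k] ResidueField T := IsScalarTower.toAlgHom k A (ResidueField T)
  have hker : RingHom.ker χ.toRingHom = q := by
    ext a
    rw [RingHom.mem_ker]
    show residue T (algebraMap A T a) = 0 ↔ _
    rw [residue_eq_zero_iff, IsLocalization.AtPrime.to_map_mem_maximal_iff T q]
  let χ' : (A ⧸ RingHom.ker χ.toRingHom) →ₐ[k] ResidueField T := Ideal.kerLiftAlg χ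
  haveI : FiniteDimensional k (A ⧸ RingHom.ker χ.toRingHom) :=
    FiniteDimensional.of_injective χ'.toLinearMap (Ideal.kerLiftAlg_injective χ)
  haveI : IsDomain (A ⧸ RingHom.ker χ.toRingHom) := (Ideal.kerLiftAlg_injective χ).isDomain χ'
  have hfield := Algebra.IsIntegral.isField_iff_isField (R := k) (S := A ⧸ RingHom.ker χ.toRingHom)
    (algebraMap k _).injective |>.1 (Field.toIsField k)
  rw [← hker]
  exact Ideal.Quotient.maximal_of_isField _ hfield

theorem δ_mul (q : Ideal A) [q.IsPrime] (a b : A) :
    δ k q (a * b) = algebraMap A (Localization.AtPrime q) a • δ k q b +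
      algebraMap A (Localization.AtPrime q) b • δ k q a := by
  show (1 : ResidueField (Localization.AtPrime q)) ⊗ₜ[Localization.AtPrime q]
    KaehlerDifferential.D k _ (algebraMap A _ (a * b)) = _
  rw [map_mul, Derivation.leibniz, TensorProduct.tmul_add, TensorProduct.tmul_smul,
    TensorProduct.tmul_smul]
  rfl

theorem exists_δ_mul_ne_zero [Algebra.FiniteType k A] (q : Ideal A) [q.IsPrime]
    (hmax : ¬ q.IsMaximal) (u : A) (hu : u ∉ q) : ∃ a, δ k q (a * u) ≠ 0 := by
  by_contra! h
  obtain ⟨a, ha⟩ := exists_δ_ne_zero (k := k) q hmax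
  have h1 : δ k q u = 0 := by simpa using h 1
  have h2 := h a
  rw [δ_mul, h1, smul_zero, zero_add] at h2
  exact ha ((IsLocalization.map_units (Localization.AtPrime q) (⟨u, hu⟩ : q.primeCompl)).smul_eq_zero.1 h2)

theorem exists_mul_good [Infinite k] [Algebra.FiniteType k A] {ι : Type} [Finite ι] (u : A)
    (q : ι → Ideal A) [∀ i, (q i).IsPrime] (hmax : ∀ i, ¬ (q i).IsMaximal) (hu : ∀ i, u ∉ q i)
    (p : Ideal A) (hp : p ≠ ⊤) : ∃ a, a ∉ p ∧ ∀ i, δ k (q i) (a * u) ≠ 0 := by
  classical
  let K : Option ι → Submodule k A := fun o => o.elim (p.restrictScalars k)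
    (fun i => LinearMap.ker ((δ k (q i)).comp (LinearMap.mulRight k u)))
  have hfin : (Set.range K).Finite := Set.finite_range K
  have hne : ∀ W ∈ Set.range K, W ≠ ⊤ := by
    rintro W ⟨o, rfl⟩ htop
    cases o with
    | none => exact hp ((Ideal.eq_top_iff_one _).2 (htop.ge (Submodule.mem_top : (1 : A) ∈ ⊤)))
    | some i =>
      obtain ⟨a, ha⟩ := exists_δ_mul_ne_zero (k := k) (q i) (hmax i) u (hu i)
      exact ha (htop.ge (Submodule.mem_top : a ∈ ⊤))
  obtain ⟨a, ha⟩ := (Set.ne_univ_iff_exists_notMem _).1
    (Subspace.biUnion_ne_univ_of_top_notMem (s := hfin.toFinset)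
      (fun h => hne _ (hfin.mem_toFinset.1 h) rfl))
  simp only [Set.mem_iUnion, not_exists, Set.Finite.mem_toFinset] at ha
  exact ⟨a, fun h => ha _ ⟨none, rfl⟩ h, fun i h => ha _ ⟨some i, rfl⟩ h⟩

theorem smoothAt_of_smooth_away (u : A) {Au : Type u} [CommRing Au] [Algebra A Au] [Algebra k Au]
    [IsScalarTower k A Au] [IsLocalization.Away u Au] [Algebra.Smooth k Au]
    [Algebra.FiniteType k A] (q : Ideal A) [q.IsPrime] (hu : u ∉ q) : Algebra.IsSmoothAt k q := by
  haveI : Algebra.FinitePresentation k A := Algebra.FinitePresentation.of_finiteType.mp inferInstance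
  let e := IsLocalization.algEquiv (Submonoid.powers u) (Localization.Away u) Au
  haveI : Algebra.Smooth k (Localization.Away u) := .of_equiv (e.restrictScalars k).symm
  exact (Algebra.basicOpen_subset_smoothLocus_iff_smooth.2 ‹_›) (show (⟨q, ‹_›⟩ : PrimeSpectrum A) ∈ PrimeSpectrum.basicOpen u from hu)

theorem exists_smooth_nhd [Algebra.FiniteType k A] (q : Ideal A) [q.IsPrime] [Algebra.IsSmoothAt k q]
    (g : A) (hg : δ k q g ≠ 0) :
    ∃ h, h ∉ q ∧ ((algebraMap A (Localization.Away h)).comp
      (aeval g : k[X] →ₐ[k] A).toRingHom).Smooth := by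
  letI : Algebra k[X] A := (aeval g : k[X] →ₐ[k] A).toRingHom.toAlgebra
  haveI : IsScalarTower k k[X] A := .of_algebraMap_eq fun c => ((aeval g).commutes c).symm
  haveI : Algebra.FiniteType k[X] A := .of_restrictScalars_finiteType k k[X] A
  haveI : Algebra.FinitePresentation k[X] A := Algebra.FinitePresentation.of_finiteType.mp inferInstance
  let T := Localization.AtPrime q
  haveI : Algebra.EssFiniteType A T := Algebra.EssFiniteType.of_isLocalization T q.primeCompl
  haveI : Algebra.EssFiniteType k T := Algebra.EssFiniteType.comp k A T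
  haveI : Algebra.FormallySmooth k T := ‹Algebra.IsSmoothAt k q›
  set m : Ω[T⁄k] := KaehlerDifferential.D k T (algebraMap A T g)
  obtain ⟨ψ, hψ⟩ := Module.Projective.exists_dual_ne_zero (ResidueField T)
    (x := (1 : ResidueField T) ⊗ₜ[T] m) hg
  let ψ' : Ω[T⁄k] →ₗ[T] ResidueField T :=
    (ψ.restrictScalars T).comp (TensorProduct.mk T (ResidueField T) Ω[T⁄k] 1)
  obtain ⟨φ, hφ⟩ := Module.projective_lifting_property (Algebra.linearMap T (ResidueField T)) ψ'
    residue_surjective
  obtain ⟨c, hc⟩ : IsUnit (φ m) := by
    by_contra h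
    exact hψ ((LinearMap.congr_fun hφ m).symm.trans ((residue_eq_zero_iff _).2 h))
  have hX : algebraMap k[X] T X = algebraMap A T g := by
    rw [IsScalarTower.algebraMap_apply k[X] A T]
    exact congrArg _ (aeval_X g)
  have hFS : Algebra.FormallySmooth k[X] T := by
    rw [H06Unram.Tower.formallySmooth_iff k k[X] T]
    refine ⟨((↑c⁻¹ : T) • φ).smulRight ((1 : T) ⊗ₜ[k[X]] KaehlerDifferential.D k k[X] X), ?_⟩
    have hgen : ∀ z : T ⊗[k[X]] Ω[k[X]⁄k], ∃ t : T,
        z = t ⊗ₜ[k[X]] KaehlerDifferential.D k k[X] X := by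
      intro z
      induction z using TensorProduct.induction_on with
      | zero => exact ⟨0, (TensorProduct.zero_tmul _ _).symm⟩
      | tmul t ω =>
        refine ⟨KaehlerDifferential.polynomialEquiv k ω • t, ?_⟩
        conv_lhs => rw [← (KaehlerDifferential.polynomialEquiv k).symm_apply_apply ω,
          KaehlerDifferential.polynomialEquiv_symm, ← TensorProduct.smul_tmul]
      | add x y hx hy =>
        obtain ⟨a, rfl⟩ := hx
        obtain ⟨b, rfl⟩ := hy
        exact ⟨a + b, (TensorProduct.add_tmul _ _ _).symm⟩
    refine LinearMap.ext fun z => ?_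
    obtain ⟨t, rfl⟩ := hgen z
    rw [LinearMap.comp_apply, KaehlerDifferential.mapBaseChange_tmul, map_smul,
      KaehlerDifferential.map_D, hX, LinearMap.smulRight_apply, LinearMap.smul_apply,
      smul_eq_mul (↑c⁻¹ : T), ← hc, Units.inv_mul, one_smul, TensorProduct.smul_tmul', smul_eq_mul,
      mul_one, LinearMap.id_apply]
  haveI : Algebra.IsSmoothAt k[X] q := hFS
  obtain ⟨h, hh, hs⟩ := Algebra.IsSmoothAt.exists_notMem_smooth k[X] q
  refine ⟨h, hh, ?_⟩
  show RingHom.Smooth _
  rw [show (algebraMap A (Localization.Away h)).comp (aeval g : k[X] →ₐ[k] A).toRingHom =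
    algebraMap k[X] (Localization.Away h) from (IsScalarTower.algebraMap_eq k[X] A (Localization.Away h)).symm]
  exact RingHom.smooth_algebraMap.2 hs

end Groth.Agent.H23MovLem
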