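import Mathlib
import Groth.Agent.H23MovLem.Alg
set_option linter.style.haveILetI false

/-!
Replacing an equation by a unit multiple smooth at given generalizations.
-/

universe u

open CategoryTheory AlgebraicGeometry Polynomial Opposite

namespace Groth.Agent.H23MovLem

theorem main {k : Type u} [Field k] [Infinite k]
    (X : Scheme.{u}) (f : X ⟶ Spec (CommRingCat.of k)) [LocallyOfFiniteType f] [QuasiCompact f]
    (u : Γ(X, ⊤)) [Smooth ((X.basicOpen u).ι ≫ f)]
    (x : ↥X) (hx : x ∉ X.basicOpen u)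
    {ι : Type} [Finite ι] (x' : ι → ↥X) (hx' : ∀ i, x' i ∈ X.basicOpen u) (hgen : ∀ i, x' i ⤳ x) :
    ∃ (X' : X.Opens) (e : Γ(X, X')) (g : (↑X' : Scheme.{u}) ⟶ Spec (CommRingCat.of (Polynomial k))),
      x ∈ X' ∧ IsUnit e ∧
      g ≫ Spec.map (CommRingCat.ofHom (Polynomial.C : k →+* Polynomial k)) = X'.ι ≫ f ∧
      X'.topIso.hom (g.appTop ((Scheme.ΓSpecIso (CommRingCat.of (Polynomial k))).inv Polynomial.X)) =
        e * X.presheaf.map (homOfLE le_top).op u ∧
      ∀ i, ∃ (W : X.Opens) (hW : W ≤ X'), x' i ∈ W ∧ Smooth (X.homOfLE hW ≫ g) := by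
  obtain ⟨U, hU, hxU, -⟩ := exists_isAffineOpen_mem_and_subset (U := (⊤ : X.Opens)) (x := x) trivial
  obtain ⟨φ, hφ⟩ := Spec.map_surjective (hU.fromSpec ≫ f)
  letI : Algebra k Γ(X, U) := φ.hom.toAlgebra
  haveI : IsOpenImmersion hU.fromSpec := hU.isOpenImmersion_fromSpec
  have hιU : ∀ (V : X.Opens) (hV : V ≤ U),
      V.toSpecΓ ≫ Spec.map (X.presheaf.map (homOfLE hV).op) ≫ Spec.map φ = V.ι ≫ f := by
    intro V hV
    rw [Scheme.Opens.toSpecΓ_SpecMap_presheaf_map_assoc, hφ, hU.toSpecΓ_fromSpec_assoc,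
      Scheme.homOfLE_ι_assoc]
  haveI hft : Algebra.FiniteType k Γ(X, U) := by
    have : LocallyOfFiniteType (Spec.map φ) := hφ ▸ inferInstance
    exact (HasRingHomProperty.Spec_iff (P := @LocallyOfFiniteType)).1 this
  let uA : Γ(X, U) := X.presheaf.map (homOfLE le_top).op u
  have hmemU : ∀ i, x' i ∈ U := fun i => (hgen i).mem_open U.isOpen hxU
  have hbU : ∀ (a : Γ(X, U)) (z : X) (hz : z ∈ U),
      z ∈ X.basicOpen a ↔ a ∉ (hU.primeIdealOf ⟨z, hz⟩).asIdeal := by
    intro a z hz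
    have h : (hU.primeIdealOf ⟨z, hz⟩) ∈ hU.fromSpec ⁻¹ᵁ X.basicOpen a ↔
        a ∉ (hU.primeIdealOf ⟨z, hz⟩).asIdeal := by
      rw [hU.fromSpec_preimage_basicOpen]
      rfl
    change hU.fromSpec (hU.primeIdealOf ⟨z, hz⟩) ∈ X.basicOpen a ↔ _ at h
    rw [hU.fromSpec_primeIdealOf] at h
    exact h
  have hbu : X.basicOpen uA = U ⊓ X.basicOpen u := X.basicOpen_res u (homOfLE le_top).op
  have hxu : uA ∈ (hU.primeIdealOf ⟨x, hxU⟩).asIdeal := by
    by_contra h
    exact hx ((hbu.le ((hbU uA x hxU).2 h)).2)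
  let q : ι → Ideal Γ(X, U) := fun i => (hU.primeIdealOf ⟨x' i, hmemU i⟩).asIdeal
  haveI : ∀ i, (q i).IsPrime := fun i => (hU.primeIdealOf ⟨x' i, hmemU i⟩).isPrime
  have huq : ∀ i, uA ∉ q i := fun i =>
    (hbU uA _ (hmemU i)).1 (hbu.ge ⟨hmemU i, hx' i⟩)
  have hmax : ∀ i, ¬ (q i).IsMaximal := by
    intro i hm
    have hsp : hU.fromSpec (hU.primeIdealOf ⟨x' i, hmemU i⟩) ⤳
        hU.fromSpec (hU.primeIdealOf ⟨x, hxU⟩) := by
      rw [hU.fromSpec_primeIdealOf, hU.fromSpec_primeIdealOf]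
      exact hgen i
    have hle := (PrimeSpectrum.le_iff_specializes _ _).2
      (hU.fromSpec.isOpenEmbedding.isInducing.specializes_iff.1 hsp)
    have heq : q i = (hU.primeIdealOf ⟨x, hxU⟩).asIdeal :=
      hm.eq_of_le (hU.primeIdealOf ⟨x, hxU⟩).isPrime.ne_top hle
    exact huq i (heq ▸ hxu)
  obtain ⟨a, hax, ha⟩ := exists_mul_good (k := k) uA q hmax huq
    (hU.primeIdealOf ⟨x, hxU⟩).asIdeal (hU.primeIdealOf ⟨x, hxU⟩).isPrime.ne_top
  let X' := X.basicOpen a
  have hX'U : X' ≤ U := X.basicOpen_le a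
  let res := X.presheaf.map (homOfLE hX'U).op
  let e : Γ(X, X') := res a
  have haeval : CommRingCat.ofHom (Polynomial.C : k →+* Polynomial k) ≫
      CommRingCat.ofHom (aeval (a * uA) : k[X] →ₐ[k] Γ(X, U)).toRingHom = φ := by
    refine CommRingCat.hom_ext (RingHom.ext fun c => ?_)
    exact aeval_C (a * uA) c
  let α : CommRingCat.of k[X] ⟶ Γ(X, U) :=
    CommRingCat.ofHom (aeval (a * uA) : k[X] →ₐ[k] Γ(X, U)).toRingHom
  haveI : MorphismProperty.RespectsIso (@Smooth : MorphismProperty Scheme.{u}) :=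
    MorphismProperty.IsStableUnderBaseChange.respectsIso
  refine ⟨X', e, X'.toSpecΓ ≫ Spec.map (α ≫ res), (hbU a x hxU).2 hax,
    RingedSpace.isUnit_res_basicOpen _ a, ?_, ?_, fun i => ?_⟩
  · rw [Category.assoc, ← Spec.map_comp, ← Category.assoc (CommRingCat.ofHom _) α, haeval,
      Spec.map_comp]
    exact hιU X' hX'U
  · rw [Scheme.Hom.comp_appTop, Scheme.Opens.toSpecΓ_appTop]
    have h1 := Scheme.ΓSpecIso_naturality (α ≫ res)
    have h2 : (Scheme.ΓSpecIso Γ(X, X')).hom ((Spec.map (α ≫ res)).appTop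
        ((Scheme.ΓSpecIso (CommRingCat.of (Polynomial k))).inv Polynomial.X)) = (α ≫ res) Polynomial.X := by
      rw [← ConcreteCategory.comp_apply, h1, ConcreteCategory.comp_apply,
        ← ConcreteCategory.comp_apply (Scheme.ΓSpecIso _).inv, Iso.inv_hom_id]
      rfl
    simp only [ConcreteCategory.comp_apply] at h2 ⊢
    rw [h2, ← ConcreteCategory.comp_apply X'.topIso.inv, Iso.inv_hom_id]
    show res.hom (aeval (a * uA) Polynomial.X) = _
    rw [aeval_X, map_mul]
    congr 1
    show res.hom (X.presheaf.map (homOfLE (le_top : U ≤ ⊤)).op u) = _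
    rw [← ConcreteCategory.comp_apply, ← X.presheaf.map_comp]
    rfl
  · haveI : Algebra.IsSmoothAt k (q i) := by
      let V := X.basicOpen uA
      have hV : IsAffineOpen V := hU.basicOpen uA
      have hVu : V ≤ X.basicOpen u := hbu.le.trans inf_le_right
      haveI : IsAffine V := hV
      have hs : Smooth (V.toSpecΓ ≫ Spec.map (φ ≫ X.presheaf.map (homOfLE (X.basicOpen_le uA)).op)) := by
        rw [Spec.map_comp, hιU V (X.basicOpen_le uA), ← Scheme.homOfLE_ι X hVu, Category.assoc]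
        infer_instance
      haveI : IsIso V.toSpecΓ := by
        delta Scheme.Opens.toSpecΓ
        infer_instance
      rw [MorphismProperty.cancel_left_of_respectsIso (P := (@Smooth : MorphismProperty Scheme.{u})),
        HasRingHomProperty.Spec_iff (P := (@Smooth : MorphismProperty Scheme.{u}))] at hs
      letI : Algebra Γ(X, U) Γ(X, V) := (X.presheaf.map (homOfLE (X.basicOpen_le uA)).op).hom.toAlgebra
      letI : Algebra k Γ(X, V) := (φ ≫ X.presheaf.map (homOfLE (X.basicOpen_le uA)).op).hom.toAlgebra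
      haveI : IsScalarTower k Γ(X, U) Γ(X, V) := .of_algebraMap_eq fun _ => rfl
      haveI : IsLocalization.Away uA Γ(X, V) := hU.isLocalization_basicOpen uA
      haveI : Algebra.Smooth k Γ(X, V) := hs
      exact smoothAt_of_smooth_away uA (Au := Γ(X, V)) (q i) (huq i)
    have haq : a ∉ q i := (hbU a _ (hmemU i)).1 ((hgen i).mem_open X'.isOpen ((hbU a x hxU).2 hax))
    obtain ⟨h, hh, hsm⟩ := exists_smooth_nhd (q i) (a * uA) (ha i)
    let W := X.basicOpen (h * a)
    have hWU : W ≤ U := X.basicOpen_le _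
    have hW : W ≤ X' := by
      show X.basicOpen (h * a) ≤ X.basicOpen a
      rw [Scheme.basicOpen_mul]
      exact inf_le_right
    refine ⟨W, hW, (hbU _ _ (hmemU i)).2 fun hm =>
      ((hU.primeIdealOf ⟨x' i, hmemU i⟩).isPrime.mem_or_mem hm).elim hh haq, ?_⟩
    have hWaff : IsAffineOpen W := hU.basicOpen (h * a)
    haveI : IsAffine W := hWaff
    haveI : IsIso W.toSpecΓ := by
      delta Scheme.Opens.toSpecΓ
      infer_instance
    have hg : X.homOfLE hW ≫ X'.toSpecΓ ≫ Spec.map (α ≫ res) =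
        W.toSpecΓ ≫ Spec.map (α ≫ X.presheaf.map (homOfLE hWU).op) := by
      rw [← Scheme.Opens.toSpecΓ_SpecMap_presheaf_map_assoc, ← Spec.map_comp, Category.assoc,
        ← X.presheaf.map_comp]
      rfl
    rw [hg, MorphismProperty.cancel_left_of_respectsIso (P := (@Smooth : MorphismProperty Scheme.{u})),
      HasRingHomProperty.Spec_iff (P := (@Smooth : MorphismProperty Scheme.{u}))]
    letI : Algebra Γ(X, U) Γ(X, W) := (X.presheaf.map (homOfLE hWU).op).hom.toAlgebra
    haveI : IsLocalization.Away (h * a) Γ(X, W) := hU.isLocalization_basicOpen _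
    let T := Localization.Away (algebraMap Γ(X, U) (Localization.Away h) a)
    haveI : IsLocalization.Away (h * a) T := IsLocalization.Away.mul' (Localization.Away h) T h a
    let ε := IsLocalization.algEquiv (Submonoid.powers (h * a)) T Γ(X, W)
    have hcomp : (α ≫ X.presheaf.map (homOfLE hWU).op).hom =
        ε.toRingEquiv.toRingHom.comp ((algebraMap (Localization.Away h) T).comp
          ((algebraMap Γ(X, U) (Localization.Away h)).comp
            (aeval (a * uA) : k[X] →ₐ[k] Γ(X, U)).toRingHom)) := by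
      refine RingHom.ext fun p => ?_
      show algebraMap Γ(X, U) Γ(X, W) (aeval (a * uA) p) =
        ε (algebraMap (Localization.Away h) T (algebraMap Γ(X, U) (Localization.Away h) (aeval (a * uA) p)))
      rw [← IsScalarTower.algebraMap_apply, AlgEquiv.commutes]
    rw [hcomp]
    exact (hsm.comp (RingHom.smooth_algebraMap.2
      (Algebra.Smooth.of_isLocalization_Away (algebraMap Γ(X, U) (Localization.Away h) a)))).comp
        (RingHom.Smooth.of_bijective ε.bijective)

end Groth.Agent.H23MovLem
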